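import Cfsg.Agent.H386.Rg.AlphaA_m3
import Cfsg.Agent.H588.ZsigPart
import Cfsg.Agent.S3430
import Cfsg.Agent.Prune
set_option linter.all false
prune_inst 0x7f00000000000000000000000000000000000000000000000000000000000000000000000000000000000000000000000000000000000000000000000000000000000000000000000000000000000000003fffffffffffffffffffffffffffbeffbdffffffff
open scoped Cfsg.Agent.FastGrp

/-!
# Existence of large primitive prime powers (S3691 (N), helper951)
-/

set_option autoImplicit false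
set_option linter.unusedSectionVars false

namespace Cfsg.Agent.H951.Rl

open Cfsg.Agent.H365.Zsig Cfsg.Agent.Lib.Zsigmondy Cfsg.Agent.H588.ZsigPart Cfsg.Agent.H851.Rl

theorem ord_of_prim {q n r : ℕ} (hq : 2 ≤ q) (hn : 1 ≤ n) (h1 : r ∣ q ^ n - 1)
    (h2 : ∀ i : ℕ, 1 ≤ i → i < n → ¬ r ∣ q ^ i - 1) : orderOf (q : ZMod r) = n := by
  rw [dvd_pow_sub_one_iff (by omega)] at h1
  by_contra hne
  have h3 : orderOf (q : ZMod r) ≤ n := Nat.le_of_dvd (by omega) h1
  have h4 : 1 ≤ orderOf (q : ZMod r) := Nat.pos_of_ne_zero fun h0 => by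
    rw [h0] at h1
    have := Nat.eq_zero_of_zero_dvd h1
    omega
  exact h2 _ h4 (by omega) ((dvd_pow_sub_one_iff (by omega) _).2 dvd_rfl)

theorem big_of {p f k r a : ℕ} (hp : p.Prime) (hf : 1 ≤ f) (hk : 1 ≤ k) (hr : r.Prime)
    (ho : orderOf ((p : ℕ) : ZMod r) = f * k) (hd : r ^ a ∣ (p ^ f) ^ k - 1) (hb : 2 * k + 1 < r ^ a) :
    ∃ r, Big p f k r (((p ^ f) ^ k - 1).factorization r) := by
  have h1 : 1 < (p ^ f) ^ k := by
    rw [← pow_mul]
    exact Nat.one_lt_pow (Nat.mul_pos hf hk).ne' hp.one_lt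
  have hN : (p ^ f) ^ k - 1 ≠ 0 := by omega
  refine ⟨r, hp, hr, ho, hf, hk, Nat.ordProj_dvd _ _, lt_of_lt_of_le hb ?_⟩
  exact Nat.pow_le_pow_right hr.pos ((hr.pow_dvd_iff_le_factorization hN).1 hd)

theorem succ_le_of_ord {q n r : ℕ} (hr : r.Prime) (hn : 1 ≤ n) (ho : orderOf (q : ZMod r) = n) :
    n ∣ r - 1 ∧ n + 1 ≤ r := by
  have h1 : ¬ r ∣ q := by
    intro hd
    have := Fact.mk hr
    have h0 : (q : ZMod r) = 0 := (ZMod.natCast_eq_zero_iff q r).2 hd
    have h1 : (q : ZMod r) ^ n = 1 := by rw [← ho]; exact pow_orderOf_eq_one _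
    rw [h0, zero_pow (by omega)] at h1
    exact zero_ne_one h1
  have h2 := orderOf_dvd_pred hr h1
  rw [ho] at h2
  have h3 := hr.two_le
  exact ⟨h2, by have := Nat.le_of_dvd (by omega) h2; omega⟩

/-- `f ≥ 3` -/
theorem case_f3 {p f k : ℕ} (hp : p.Prime) (hf : 3 ≤ f) (hk : 6 ≤ k) :
    ∃ r, Big p f k r (((p ^ f) ^ k - 1).factorization r) := by
  have h18 : 18 ≤ f * k := Nat.mul_le_mul hf hk
  obtain ⟨r, hr, ho⟩ := exists_prime_orderOf hp.two_le (by omega : 2 ≤ f * k) (by omega) (by omega)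
  obtain ⟨h1, h2⟩ := succ_le_of_ord hr (by omega) ho
  refine big_of (a := 1) hp (by omega) (by omega) hr ho ?_ ?_
  · rw [pow_one, ← pow_mul, dvd_pow_sub_one_iff hp.one_le, ho]
  · have h3 : 3 * k ≤ f * k := Nat.mul_le_mul_right _ hf
    rw [pow_one]
    omega

/-- `f = 2` -/
theorem case_f2 {p k : ℕ} (hp : p.Prime) (hk : 6 ≤ k) (h6 : ¬ (p = 2 ∧ k = 6)) (h9 : ¬ (p = 2 ∧ k = 9)) :
    ∃ r, Big p 2 k r (((p ^ 2) ^ k - 1).factorization r) := by
  obtain ⟨r, hr, hd, hpr, hb⟩ := S3430.result p (2 * k) hp.two_le (by omega) (by omega)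
    (by rintro ⟨h1, h2⟩; omega) (by omega) (by omega)
  have ho := ord_of_prim hp.two_le (by omega) hd hpr
  obtain ⟨h1, h2⟩ := succ_le_of_ord hr (by omega) ho
  rcases hb with hb | hb
  · refine big_of (a := 1) hp (by omega) (by omega) hr ho ?_ ?_
    · rw [pow_one, ← pow_mul]
      exact hd
    · rw [pow_one]
      exact hb
  · refine big_of (a := 2) hp (by omega) (by omega) hr ho ?_ ?_
    · rw [← pow_mul p]
      exact hb
    · nlinarith only [hk, h2]

/-! ### `f = 1` -/

/-- no large primitive prime power -/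
def No (p k : ℕ) : Prop := ∀ r : ℕ, r.Prime → orderOf (p : ZMod r) = k → r ≤ 2 * k + 1 ∧ ¬ r ^ 2 ∣ p ^ k - 1

theorem No.eq {p k : ℕ} (h : No p k) (hk : 1 ≤ k) {r : ℕ} (hr : r.Prime) (ho : orderOf (p : ZMod r) = k) :
    r = k + 1 ∨ r = 2 * k + 1 := by
  obtain ⟨⟨c, hc⟩, h2⟩ := succ_le_of_ord hr hk ho
  have h3 := (h r hr ho).1
  have hc1 : c ≤ 2 := by
    by_contra hlt
    have : k * 3 ≤ k * c := Nat.mul_le_mul_left _ (by omega)
    omega
  interval_cases c <;> omega

theorem No.ex {p k : ℕ} (h : No p k) {r : ℕ} (hp : 2 ≤ p) (hk : 1 ≤ k) (hr : r.Prime) (h1 : r ∣ p ^ k - 1)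
    (h2 : ∀ i ∈ Finset.range k, 1 ≤ i → ¬ r ∣ p ^ i - 1) (h3 : 2 * k + 1 < r) : False := by
  have ho := ord_of_prim hp hk h1 fun i hi hik => h2 i (Finset.mem_range.2 hik) hi
  have := (h r hr ho).1
  omega

theorem No.prim {p k m : ℕ} (h : No p k) (hp : 2 ≤ p) (hk : 6 ≤ k) (hm : Prim p k m) :
    Squarefree m ∧ m.primeFactors ⊆ {k + 1, 2 * k + 1} := by
  have hN : p ^ k - 1 ≠ 0 := by
    have : 1 < p ^ k := Nat.one_lt_pow (by omega) (by omega)
    omega
  have hm0 : m ≠ 0 := fun h0 => hN (by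
    have := hm.1
    rw [h0] at this
    exact Nat.eq_zero_of_zero_dvd this)
  have hord : ∀ r : ℕ, r.Prime → r ∣ m → orderOf (p : ZMod r) = k := by
    intro r hr hrm
    refine ord_of_prim hp (by omega) (hrm.trans hm.1) fun i hi hik hd => ?_
    exact Nat.Prime.not_coprime_iff_dvd.2 ⟨r, hr, hrm, hd⟩ (hm.2 i hi hik)
  constructor
  · rw [Nat.squarefree_iff_prime_squarefree]
    intro r hr hd
    refine (h r hr (hord r hr ((Dvd.intro _ rfl).trans hd))).2 ?_
    rw [pow_two]
    exact hd.trans hm.1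
  · intro r hr
    have hr1 := Nat.prime_of_mem_primeFactors hr
    rw [Finset.mem_insert, Finset.mem_singleton]
    exact h.eq (by omega) hr1 (hord r hr1 (Nat.dvd_of_mem_primeFactors hr))

theorem No.primes {p k m : ℕ} (h : No p k) (hp : 2 ≤ p) (hk : 6 ≤ k) (hm : Prim p k m) (h3 : 3 * k + 1 ≤ m) :
    (k + 1).Prime ∧ (2 * k + 1).Prime := by
  obtain ⟨h1, h2⟩ := h.prim hp hk hm
  have h4 := Nat.prod_primeFactors_of_squarefree h1
  constructor
  · by_contra hnp
    have h5 : m.primeFactors ⊆ {2 * k + 1} := by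
      intro r hr
      rcases Finset.mem_insert.1 (h2 hr) with h6 | h6
      · exact absurd (h6 ▸ Nat.prime_of_mem_primeFactors hr) hnp
      · exact h6
    have h6 := Finset.prod_dvd_prod_of_subset _ _ (fun r : ℕ => r) h5
    rw [h4, Finset.prod_singleton] at h6
    have := Nat.le_of_dvd (by omega) h6
    omega
  · by_contra hnp
    have h5 : m.primeFactors ⊆ {k + 1} := by
      intro r hr
      rcases Finset.mem_insert.1 (h2 hr) with h6 | h6
      · exact Finset.mem_singleton.2 h6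
      · exact absurd ((Finset.mem_singleton.1 h6) ▸ Nat.prime_of_mem_primeFactors hr) hnp
    have h6 := Finset.prod_dvd_prod_of_subset _ _ (fun r : ℕ => r) h5
    rw [h4, Finset.prod_singleton] at h6
    have := Nat.le_of_dvd (by omega) h6
    omega

theorem No.le {p k m : ℕ} (h : No p k) (hp : 2 ≤ p) (hk : 6 ≤ k) (hm : Prim p k m) :
    m ≤ (k + 1) * (2 * k + 1) := by
  obtain ⟨h1, h2⟩ := h.prim hp hk hm
  have h6 := Finset.prod_dvd_prod_of_subset _ _ (fun r : ℕ => r) h2
  rw [Nat.prod_primeFactors_of_squarefree h1, Finset.prod_insert (by simp; omega), Finset.prod_singleton] at h6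
  exact Nat.le_of_dvd (by positivity) h6

theorem six_dvd {k : ℕ} (hk : 6 ≤ k) (h1 : (k + 1).Prime) (h2 : (2 * k + 1).Prime) : 6 ∣ k := by
  have h3 : k % 2 = 0 := by
    rcases h1.eq_two_or_odd with h | h <;> omega
  have h4 : k % 3 = 0 := by
    by_contra hne
    have h5 : 3 ∣ k + 1 ∨ 3 ∣ 2 * k + 1 := by
      rcases (by (clear * - hne; omega) : k % 3 = 1 ∨ k % 3 = 2) with h | h
      · exact Or.inr (by omega)
      · exact Or.inl (by omega)
    rcases h5 with h5 | h5
    · have := (Nat.prime_dvd_prime_iff_eq Nat.prime_three h1).1 h5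
      omega
    · have := (Nat.prime_dvd_prime_iff_eq Nat.prime_three h2).1 h5
      omega
  omega

theorem two_pow_ge' : ∀ t : ℕ, 7 ≤ t → 18 * t ≤ 2 ^ t := by
  intro t ht
  induction t, ht using Nat.le_induction with
  | base => norm_num
  | succ t ht ih => rw [pow_succ]; omega

/-- the largest prime divisor of `k` is 3 -/
theorem No.case_three {p k : ℕ} (h : No p k) (hp : p.Prime) (h1 : (k + 1).Prime)
    (h2 : (2 * k + 1).Prime) (j a : ℕ) (hek : k = 3 ^ (j + 1) * 2 ^ (a + 1))
    (hle : Ph k p ≤ (k + 1) * (2 * k + 1) * 3)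
    (hex : (p, k) ∉ [(2, 6), (3, 6), (5, 6), (17, 6), (2, 18), (3, 18)]) : False := by
  have hq := hp.two_le
  have hP := Ph_three (q := p) (k := j) (a := a) hq
  rw [← hek] at hP
  set t := 3 ^ j * 2 ^ a with ht
  have hn6 : k = 6 * t := by rw [hek, ht]; ring
  have ht1 : 1 ≤ t := Nat.mul_pos (by positivity) (by positivity)
  clear_value t
  subst hn6
  rcases (by omega : t = 1 ∨ t = 2 ∨ t = 3 ∨ t = 4 ∨ t = 5 ∨ t = 6 ∨ 7 ≤ t) with ht | ht | ht | ht | ht | ht | ht
  · subst ht
    rw [pow_one] at hP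
    have hp17 : p ≤ 17 := by
      by_contra hlt
      push Not at hlt
      nlinarith only [hle, hP, hlt]
    interval_cases p
    · simp at hex
    · simp at hex
    · norm_num at hp
    · simp at hex
    · norm_num at hp
    · exact h.ex (r := 43) (by norm_num) (by norm_num) (by norm_num) (by norm_num) (by decide) (by norm_num)
    · norm_num at hp
    · norm_num at hp
    · norm_num at hp
    · exact h.ex (r := 37) (by norm_num) (by norm_num) (by norm_num) (by norm_num) (by decide) (by norm_num)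
    · norm_num at hp
    · exact h.ex (r := 157) (by norm_num) (by norm_num) (by norm_num) (by norm_num) (by decide) (by norm_num)
    · norm_num at hp
    · norm_num at hp
    · norm_num at hp
    · simp at hex
  · subst ht; norm_num at h2
  · subst ht
    have hp3 : p < 4 := by
      by_contra hlt
      push Not at hlt
      have h64 : 64 ≤ p ^ 3 := by
        calc 64 = 4 ^ 3 := rfl
          _ ≤ p ^ 3 := Nat.pow_le_pow_left hlt 3
      nlinarith only [hle, hP, h64]
    interval_cases p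
    · simp at hex
    · simp at hex
  · subst ht; norm_num at h1
  · subst ht
    have hp3 : p < 3 := by
      by_contra hlt
      push Not at hlt
      have h64 : 243 ≤ p ^ 5 := by
        calc 243 = 3 ^ 5 := rfl
          _ ≤ p ^ 5 := Nat.pow_le_pow_left hlt 5
      nlinarith only [hle, hP, h64]
    interval_cases p
    exact h.ex (r := 331) (by norm_num) (by norm_num) (by norm_num) (by norm_num) (by decide) (by norm_num)
  · subst ht
    have hp3 : p < 3 := by
      by_contra hlt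
      push Not at hlt
      have h64 : 729 ≤ p ^ 6 := by
        calc 729 = 3 ^ 6 := rfl
          _ ≤ p ^ 6 := Nat.pow_le_pow_left hlt 6
      nlinarith only [hle, hP, h64]
    interval_cases p
    exact h.ex (r := 109) (by norm_num) (by norm_num) (by norm_num) (by norm_num) (by decide) (by norm_num)
  · have h10 : 2 ^ t ≤ p ^ t := Nat.pow_le_pow_left hq t
    have h11 := two_pow_ge' t ht
    have h12 : 18 * t ≤ p ^ t := h11.trans h10
    generalize p ^ t = u at hP h12
    nlinarith only [hle, ht, hP, h12]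

/-! the inequality for `P ≥ 5` -/

theorem numa5 : ∀ x : ℕ, 8 ≤ x → (10 * x ^ 2 + 1) * (20 * x ^ 2 + 1) * 5 < 2 ^ (3 * x) := by
  intro x hx
  induction x, hx using Nat.le_induction with
  | base => norm_num
  | succ x hx ih =>
    have : 2 ^ (3 * (x + 1)) = 8 * 2 ^ (3 * x) := by rw [mul_add, pow_add]; ring
    rw [this]
    have h1 : (x + 1) ^ 2 ≤ 2 * x ^ 2 := by nlinarith only [hx]
    calc (10 * (x + 1) ^ 2 + 1) * (20 * (x + 1) ^ 2 + 1) * 5
        ≤ (2 * (10 * x ^ 2 + 1)) * (2 * (20 * x ^ 2 + 1)) * 5 := by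
          apply Nat.mul_le_mul_right
          apply Nat.mul_le_mul <;> (clear * - h1; omega)
      _ = 4 * ((10 * x ^ 2 + 1) * (20 * x ^ 2 + 1) * 5) := by ring
      _ < 8 * 2 ^ (3 * x) := by omega

theorem numa7 : ∀ x : ℕ, 4 ≤ x → (14 * x ^ 2 + 1) * (28 * x ^ 2 + 1) * 7 < 2 ^ (5 * x) := by
  intro x hx
  induction x, hx using Nat.le_induction with
  | base => norm_num
  | succ x hx ih =>
    have : 2 ^ (5 * (x + 1)) = 32 * 2 ^ (5 * x) := by rw [mul_add, pow_add]; ring
    rw [this]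
    have h1 : (x + 1) ^ 2 ≤ 2 * x ^ 2 := by nlinarith only [hx]
    calc (14 * (x + 1) ^ 2 + 1) * (28 * (x + 1) ^ 2 + 1) * 7
        ≤ (2 * (14 * x ^ 2 + 1)) * (2 * (28 * x ^ 2 + 1)) * 7 := by
          apply Nat.mul_le_mul_right
          apply Nat.mul_le_mul <;> (clear * - h1; omega)
      _ = 4 * ((14 * x ^ 2 + 1) * (28 * x ^ 2 + 1) * 7) := by ring
      _ < 32 * 2 ^ (5 * x) := by omega

theorem numa11 : ∀ x : ℕ, 2 ≤ x → (22 * x ^ 2 + 1) * (44 * x ^ 2 + 1) * 11 < 2 ^ (9 * x) := by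
  intro x hx
  induction x, hx using Nat.le_induction with
  | base => norm_num
  | succ x hx ih =>
    have : 2 ^ (9 * (x + 1)) = 512 * 2 ^ (9 * x) := by rw [mul_add, pow_add]; ring
    rw [this]
    have h1 : (x + 1) ^ 2 ≤ 4 * x ^ 2 := by nlinarith only [hx]
    calc (22 * (x + 1) ^ 2 + 1) * (44 * (x + 1) ^ 2 + 1) * 11
        ≤ (4 * (22 * x ^ 2 + 1)) * (4 * (44 * x ^ 2 + 1)) * 11 := by
          apply Nat.mul_le_mul_right
          apply Nat.mul_le_mul <;> (clear * - h1; omega)
      _ = 16 * ((22 * x ^ 2 + 1) * (44 * x ^ 2 + 1) * 11) := by ring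
      _ < 512 * 2 ^ (9 * x) := by omega

theorem numa_step {x y z : ℕ} (hx : 2 ≤ x) (hz : 5 ≤ z) (hzy : z ≤ y)
    (h : (2 * z * x ^ 2 + 1) * (4 * z * x ^ 2 + 1) * z < 2 ^ ((z - 2) * x)) :
    (2 * y * x ^ 2 + 1) * (4 * y * x ^ 2 + 1) * y < 2 ^ ((y - 2) * x) := by
  induction y, hzy using Nat.le_induction with
  | base => exact h
  | succ y hy ih =>
    have h1 : (y + 1 - 2) * x = (y - 2) * x + x := by
      rw [show y + 1 - 2 = (y - 2) + 1 by omega]; ring
    rw [h1, pow_add]
    have h2 : 4 ≤ 2 ^ x := by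
      calc 4 = 2 ^ 2 := rfl
        _ ≤ 2 ^ x := Nat.pow_le_pow_right (by norm_num) hx
    -- `(y + 1)^3 ≤ 4 y^3` hidden in the three factors: 5 (y + 1) ≤ 6 y
    have h3 : 5 * (2 * (y + 1) * x ^ 2 + 1) ≤ 6 * (2 * y * x ^ 2 + 1) := by nlinarith only [hz, hy]
    have h4 : 5 * (4 * (y + 1) * x ^ 2 + 1) ≤ 6 * (4 * y * x ^ 2 + 1) := by nlinarith only [hz, hy]
    have h5 : 5 * (y + 1) ≤ 6 * y := by omega
    have h6 := Nat.mul_le_mul (Nat.mul_le_mul h3 h4) h5
    have h7 : 125 * ((2 * (y + 1) * x ^ 2 + 1) * (4 * (y + 1) * x ^ 2 + 1) * (y + 1)) ≤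
        216 * ((2 * y * x ^ 2 + 1) * (4 * y * x ^ 2 + 1) * y) := by
      calc _ = 5 * (2 * (y + 1) * x ^ 2 + 1) * (5 * (4 * (y + 1) * x ^ 2 + 1)) * (5 * (y + 1)) := by ring
        _ ≤ _ := h6
        _ = _ := by ring
    calc (2 * (y + 1) * x ^ 2 + 1) * (4 * (y + 1) * x ^ 2 + 1) * (y + 1)
        ≤ 4 * ((2 * y * x ^ 2 + 1) * (4 * y * x ^ 2 + 1) * y) := by (clear * - h7; omega)
      _ < 4 * 2 ^ ((y - 2) * x) := by omega
      _ ≤ 2 ^ ((y - 2) * x) * 2 ^ x := by rw [mul_comm]; exact Nat.mul_le_mul_left _ h2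

theorem numa {x y : ℕ} (h : (5 ≤ y ∧ 8 ≤ x) ∨ (7 ≤ y ∧ 4 ≤ x) ∨ (11 ≤ y ∧ 2 ≤ x)) :
    (2 * y * x ^ 2 + 1) * (4 * y * x ^ 2 + 1) * y < 2 ^ ((y - 2) * x) := by
  rcases h with ⟨h1, h2⟩ | ⟨h1, h2⟩ | ⟨h1, h2⟩
  · exact numa_step (by omega) le_rfl h1 (numa5 x h2)
  · exact numa_step (by omega) (by norm_num) h1 (numa7 x h2)
  · exact numa_step (by omega) (by norm_num) h1 (numa11 x h2)

/-- the largest prime divisor of `k` is at least 5 -/
theorem No.case_five {p k : ℕ} (h : No p k) (hp : p.Prime) (h1 : (k + 1).Prime)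
    (h2 : (2 * k + 1).Prime) (P j m : ℕ) (hP : P.Prime) (hP5 : 5 ≤ P) (hek : k = P ^ (j + 1) * m)
    (hm0 : m ≠ 0) (hm : ¬ P ∣ m) (h6 : 6 ∣ m) (hle : Ph k p ≤ (k + 1) * (2 * k + 1) * P) : False := by
  have hge := Ph_ge (k := j) hp.two_le hP (by omega) hm
  rw [← hek] at hge
  have hme := le_two_mul_totient_sq (Nat.pos_of_ne_zero hm0)
  obtain ⟨y, hy⟩ : 2 ∣ m.totient := by
    have := Nat.totient_dvd_of_dvd h6
    rwa [show Nat.totient 6 = 2 by decide] at this
  have he1 : 1 ≤ m.totient := Nat.totient_pos.2 (Nat.pos_of_ne_zero hm0)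
  have ht1 : 1 ≤ P ^ j := Nat.one_le_pow _ _ hP.pos
  have hx2 : 2 ≤ P ^ j * m.totient := by
    calc 2 = 1 * 2 := rfl
      _ ≤ P ^ j * m.totient := Nat.mul_le_mul ht1 (by omega)
  by_cases hc : (5 ≤ P ∧ 8 ≤ P ^ j * m.totient) ∨ (7 ≤ P ∧ 4 ≤ P ^ j * m.totient) ∨ (11 ≤ P ∧ 2 ≤ P ^ j * m.totient)
  · have hmain := numa hc
    have h5 : 2 ^ ((P - 2) * (P ^ j * m.totient)) ≤ p ^ (P ^ j * ((P - 2) * m.totient)) := by
      rw [show P ^ j * ((P - 2) * m.totient) = (P - 2) * (P ^ j * m.totient) by ring]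
      exact Nat.pow_le_pow_left hp.two_le _
    have h6 : k ≤ 2 * P * (P ^ j * m.totient) ^ 2 := by
      rw [hek]
      calc P ^ (j + 1) * m ≤ P ^ (j + 1) * (2 * m.totient ^ 2) := Nat.mul_le_mul_left _ hme
        _ = 2 * P * (P ^ j * m.totient ^ 2) := by ring
        _ ≤ 2 * P * (P ^ j * (P ^ j * m.totient ^ 2)) := by
          apply Nat.mul_le_mul_left
          exact Nat.le_mul_of_pos_left _ ht1
        _ = _ := by ring
    have h7 : (k + 1) * (2 * k + 1) * P ≤
        (2 * P * (P ^ j * m.totient) ^ 2 + 1) * (4 * P * (P ^ j * m.totient) ^ 2 + 1) * P := by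
      apply Nat.mul_le_mul_right
      apply Nat.mul_le_mul
      · omega
      · have : 4 * P * (P ^ j * m.totient) ^ 2 = 2 * (2 * P * (P ^ j * m.totient) ^ 2) := by ring
        omega
    omega
  · push Not at hc
    obtain ⟨hc1, hc2, hc3⟩ := hc
    have hx8 := hc1 hP5
    have hP11 : P < 11 := by
      by_contra h
      push Not at h
      have := hc3 h
      omega
    have hP57 : P = 5 ∨ (P = 7 ∧ P ^ j * m.totient < 4) := by
      rcases (by omega : P = 5 ∨ P = 6 ∨ P = 7 ∨ P = 8 ∨ P = 9 ∨ P = 10) with h | h | h | h | h | h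
      · exact Or.inl h
      · subst h; norm_num at hP
      · exact Or.inr ⟨h, hc2 (by omega)⟩
      · subst h; norm_num at hP
      · subst h; norm_num at hP
      · subst h; norm_num at hP
    have hj0 : j = 0 := by
      by_contra hj
      have h1 : P ^ 1 ≤ P ^ j := Nat.pow_le_pow_right hP.pos (by omega)
      rw [pow_one] at h1
      have h2 : P * 2 ≤ P ^ j * m.totient := Nat.mul_le_mul h1 (by omega)
      omega
    subst hj0
    simp only [pow_zero, one_mul, zero_add, pow_one] at *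
    -- `m` is `6`, `12` or `18`
    obtain ⟨c, rfl⟩ := h6
    have hc12 : c ≤ 12 := by
      have : (6 * c).totient ≤ 6 := by omega
      have h4 : (6 * c).totient ^ 2 ≤ 6 ^ 2 := Nat.pow_le_pow_left this 2
      omega
    have hc3 : c = 1 ∨ (P = 5 ∧ (c = 2 ∨ c = 3)) := by
      interval_cases c
      · simp at hm0
      · exact Or.inl rfl
      · have : (6 * 2).totient = 4 := by decide
        omega
      · have : (6 * 3).totient = 6 := by decide
        omega
      · have : (6 * 4).totient = 8 := by decide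
        omega
      · have : (6 * 5).totient = 8 := by decide
        omega
      · have : (6 * 6).totient = 12 := by decide
        omega
      · have : (6 * 7).totient = 12 := by decide
        omega
      · have : (6 * 8).totient = 16 := by decide
        omega
      · have : (6 * 9).totient = 18 := by decide
        omega
      · have : (6 * 10).totient = 16 := by decide
        omega
      · have : (6 * 11).totient = 20 := by decide
        omega
      · have : (6 * 12).totient = 24 := by decide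
        omega
    rcases hP57 with rfl | ⟨rfl, -⟩
    · rcases hc3 with rfl | ⟨-, rfl | rfl⟩
      · rw [show Nat.totient (6 * 1) = 2 from by decide] at hge
        have h30 : k = 30 := by omega
        subst h30
        have hp5 : p < 5 := by
          by_contra hlt
          push Not at hlt
          have : 5 ^ 6 ≤ p ^ 6 := Nat.pow_le_pow_left hlt 6
          norm_num at hge this hle
          omega
        have hp2 := hp.two_le
        interval_cases p
        · exact h.ex (r := 331) (by norm_num) (by norm_num) (by norm_num) (by norm_num) (by decide) (by norm_num)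
        · exact h.ex (r := 271) (by norm_num) (by norm_num) (by norm_num) (by norm_num) (by decide) (by norm_num)
        · norm_num at hp
      · subst hek; norm_num at h2
      · subst hek; norm_num at h1
    · rcases hc3 with rfl | ⟨h5, -⟩
      · subst hek; norm_num at h2
      · omega

/-- `f = 1` -/
theorem not_no {p k : ℕ} (hp : p.Prime) (hk : 6 ≤ k)
    (hex : (p, k) ∉ [(2, 6), (2, 8), (2, 10), (2, 12), (2, 18), (2, 20), (3, 6), (3, 18), (5, 6), (17, 6)]) :
    ¬ No p k := by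
  intro h
  have hq := hp.two_le
  have hE : ¬ Exc p k := by
    intro hE
    unfold Exc at hE
    simp only [List.mem_cons, Prod.mk.injEq, List.not_mem_nil, or_false] at hE hex
    rcases hE with h | h | h | h | h | h | h | h | h | h | h | h | h <;> obtain ⟨rfl, rfl⟩ := h <;>
      first | omega | (norm_num at hex; done) | norm_num at hp
  obtain ⟨m', hm', hm'3⟩ := exists_large hq (by omega) hE
  obtain ⟨h1, h2⟩ := h.primes hq hk hm' hm'3
  have h6 := six_dvd hk h1 h2
  have hne : k.primeFactors.Nonempty := Nat.nonempty_primeFactors.2 (by omega)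
  set P := k.primeFactors.max' hne with hPdef
  have hPmem : P ∈ k.primeFactors := Finset.max'_mem _ _
  have hP : P.Prime := Nat.prime_of_mem_primeFactors hPmem
  have hPe : P ∣ k := Nat.dvd_of_mem_primeFactors hPmem
  have hmax : ∀ s : ℕ, s.Prime → s ∣ k → s ≤ P := fun s hs hsn =>
    Finset.le_max' _ _ (Nat.mem_primeFactors.2 ⟨hs, hsn, by omega⟩)
  clear_value P
  have hle : Ph k p ≤ (k + 1) * (2 * k + 1) * P := by
    obtain ⟨m, hm, hle⟩ := exists_prim hq (by omega) hP hPe hmax
    exact hle.trans (Nat.mul_le_mul_right _ (h.le hq hk hm))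
  obtain ⟨i, m, hm, hek⟩ := Nat.exists_eq_pow_mul_and_not_dvd (n := k) (by omega) P hP.ne_one
  have hm0 : m ≠ 0 := by rintro rfl; simp at hm
  obtain ⟨j, rfl⟩ : ∃ j, i = j + 1 := by
    refine Nat.exists_eq_succ_of_ne_zero ?_
    rintro rfl
    rw [pow_zero, one_mul] at hek
    exact hm (hek ▸ hPe)
  have hP3 : 3 ≤ P := hmax 3 Nat.prime_three ((by norm_num : 3 ∣ 6).trans h6)
  rcases Nat.lt_or_ge P 5 with hP5 | hP5
  · obtain rfl : P = 3 := by
      rcases (by omega : P = 3 ∨ P = 4) with h | h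
      · exact h
      · subst h; norm_num at hP
    have hm2 : m = 2 ^ m.primeFactorsList.length := by
      refine Nat.eq_prime_pow_of_unique_prime_dvd hm0 ?_
      intro s hs hsm
      have h1 := hmax s hs (hsm.trans (Dvd.intro_left _ hek.symm))
      have h2 := hs.two_le
      rcases (by omega : s = 2 ∨ s = 3) with h | h
      · exact h
      · exact absurd (h ▸ hsm) hm
    rcases Nat.eq_zero_or_pos m.primeFactorsList.length with h0 | h0
    · rw [h0, pow_zero] at hm2
      subst hm2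
      rw [mul_one] at hek
      have h3 : 2 ∣ 3 ^ (j + 1) := hek ▸ (by norm_num : 2 ∣ 6).trans h6
      have h4 := Nat.prime_two.dvd_of_dvd_pow h3
      omega
    · obtain ⟨a, ha⟩ : ∃ a, m.primeFactorsList.length = a + 1 := ⟨m.primeFactorsList.length - 1, by omega⟩
      rw [ha] at hm2
      subst hm2
      refine h.case_three hp h1 h2 j a hek hle ?_
      simp only [List.mem_cons, Prod.mk.injEq, List.not_mem_nil, or_false] at hex ⊢
      (clear * - hex; omega)
  · have h6m : 6 ∣ m := by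
      rw [hek] at h6
      refine Nat.Coprime.dvd_of_dvd_mul_left ?_ h6
      apply Nat.Coprime.pow_right
      rw [show 6 = 2 * 3 from rfl]
      apply Nat.Coprime.mul_left
      · exact (Nat.coprime_primes Nat.prime_two hP).2 (by omega)
      · exact (Nat.coprime_primes Nat.prime_three hP).2 (by omega)
    exact h.case_five hp h1 h2 P j m hP hP5 hek hm0 hm h6m hle

theorem case_f1 {p k : ℕ} (hp : p.Prime) (hk : 6 ≤ k)
    (hex : (p, k) ∉ [(2, 6), (2, 8), (2, 10), (2, 12), (2, 18), (2, 20), (3, 6), (3, 18), (5, 6), (17, 6)]) :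
    ∃ r, Big p 1 k r (((p ^ 1) ^ k - 1).factorization r) := by
  have h := not_no hp hk hex
  unfold No at h
  push Not at h
  obtain ⟨r, hr, ho, h1⟩ := h
  obtain ⟨h2, h3⟩ := succ_le_of_ord hr (by omega) ho
  by_cases h4 : r ≤ 2 * k + 1
  · refine big_of (a := 2) hp le_rfl (by omega) hr (by rw [one_mul]; exact ho) (by rw [pow_one]; exact h1 h4) ?_
    nlinarith only [hk, h3]
  · refine big_of (a := 1) hp le_rfl (by omega) hr (by rw [one_mul]; exact ho) ?_ (by rw [pow_one]; omega)
    rw [pow_one, pow_one, dvd_pow_sub_one_iff hp.one_le, ho]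

/-- **(N)** existence of large primitive prime powers -/
theorem exists_big {p f k : ℕ} (hp : p.Prime) (hf : 1 ≤ f) (hk : 6 ≤ k)
    (hex : (p, f, k) ∉ [(2, 1, 6), (2, 1, 8), (2, 1, 10), (2, 1, 12), (2, 1, 18), (2, 1, 20), (3, 1, 6), (3, 1, 18),
      (5, 1, 6), (17, 1, 6), (2, 2, 6), (2, 2, 9)]) :
    ∃ r, Cfsg.Agent.H851.Rl.Big p f k r (((p ^ f) ^ k - 1).factorization r) := by
  rcases (by omega : f = 1 ∨ f = 2 ∨ 3 ≤ f) with rfl | rfl | h3
  · apply case_f1 hp hk
    intro h
    apply hex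
    simp only [List.mem_cons, Prod.mk.injEq, List.not_mem_nil, or_false] at h
    rcases h with h | h | h | h | h | h | h | h | h | h <;> obtain ⟨rfl, rfl⟩ := h <;> decide
  · refine case_f2 hp hk ?_ ?_
    · rintro ⟨rfl, rfl⟩
      exact hex (by decide)
    · rintro ⟨rfl, rfl⟩
      exact hex (by decide)
  · exact case_f3 hp h3 hk

end Cfsg.Agent.H951.Rl
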